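import Groth.Agent.Sga4h.H299.HcK
import Groth.Agent.Sga4h.H299.RsBC

/-!
# No global sections of `k_! R^a f_! M`

`X --j--> P --p--> S`, `ι : V ⟶ S`, `U = X ×_S V`, `V` compactified by `k, r`, `U` by `l, e` over `Spec K`. If
`R^q f_! M` vanishes on `V` for `q ≠ a` and `H^a(E, l_! M) = 0` then `H^0(Y, k_! (R^a f_! M |_V)) = 0`.
-/

set_option autoImplicit false
universe u

open CategoryTheory CategoryTheory.Limits AlgebraicGeometry Opposite

namespace Groth.Agent.Sga4h.H138.KlPunct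

open Groth.Agent.Sga4h.ModRestr Groth.Agent.Sga4h.EtaleRes Groth.Agent.Etrest.ModAb
  Groth.Agent.Sga4h.H299.ExtBC Groth.Agent.Sga4h.H299.Rs Groth.Agent.Sga4h.H299.AbBasic
  Groth.Agent.Sga4h.H299.Hc Groth.Agent.Sga4h.H299.HcK Groth.Agent.Sga4h.H299.LamMod

attribute [local instance] jCont

variable {Λ : Type (u + 1)} [CommRing Λ] {K : Type u} [Field K] [IsSepClosed K]

theorem subsingleton_H0 {n : ℕ} (hn0 : 0 < n) (hn : (n : Λ) = 0) {X P S V U E Y : Scheme.{u}} (j : X ⟶ P)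
    (p : P ⟶ S) [IsOpenImmersion j] [QuasiCompact j] [IsProper p] (ι : V ⟶ S)
    (c : V ⟶ Spec (CommRingCat.of K)) {g₁ : U ⟶ X} {g₂ : U ⟶ V} (h : IsPullback g₁ g₂ (j ≫ p) ι) (a : ℕ)
    (M : EtModW.Mod Λ X) (hq : ∀ q, q ≠ a → IsZero ((RS Λ j p q).obj M)) (l : U ⟶ E)
    (e : E ⟶ Spec (CommRingCat.of K)) [IsOpenImmersion l] [IsProper e] (w : l ≫ e = g₂ ≫ c)
    (hE : Subsingleton (HcG l ((EtModW.pull Λ g₁).obj M) a)) (k : V ⟶ Y) (r : Y ⟶ Spec (CommRingCat.of K))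
    [IsOpenImmersion k] [QuasiCompact k] [IsProper r] (wk : k ≫ r = c) :
    Subsingleton (EtCoh.H Y ((EtShriek.extZero k).obj ((EtCoh.pull ι).obj ((ab Λ S).obj
      ((RS Λ j p a).obj M)))) 0) := by
  obtain ⟨P', j', p', gP, i1, i2, h1, h2, h3⟩ := H299.RsBC.exists_baseChange j p h
  have i3 : QuasiCompact j' := MorphismProperty.of_isPullback h2 inferInstance
  have i4 := compactSpace_of_proper r
  have i5 := quasiSeparatedSpace_of_proper r
  have hq' : ∀ q, q ≠ a → IsZero ((RS Λ j' p' q).obj ((EtModW.pull Λ g₁).obj M)) := by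
    intro q hqa
    obtain ⟨e1⟩ := H299.RsBC.nonempty_rs_pbc hn0 hn h2 h3 q M
    exact ((EtModW.pull Λ ι).map_isZero (hq q hqa)).of_iso e1.symm
  obtain ⟨e1⟩ := H299.RsBC.nonempty_rs_pbc hn0 hn h2 h3 a M
  obtain ⟨e2⟩ := H299.Leray.nonempty_leray j' p' k r l e hn0 hn
    (by rw [w, wk, ← Category.assoc, h1]) a ((EtModW.pull Λ g₁).obj M) hq' 0
  have h4 : IsZero ((RS Λ l e (0 + a)).obj ((EtModW.pull Λ g₁).obj M)) := by
    rw [Nat.zero_add]
    exact (isZero_iff l e a _).2 hE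
  have h5 : IsZero ((RS Λ k r 0).obj ((EtModW.pull Λ ι).obj ((RS Λ j p a).obj M))) :=
    (h4.of_iso e2.symm).of_iso ((RS Λ k r 0).mapIso e1)
  have h6 := (isZero_iff k r 0 _).1 h5
  obtain ⟨e3⟩ := nonempty_H_congr ((EtShriek.extZero k).mapIso ((pullIso Λ ι).app ((RS Λ j p a).obj M))) 0
  exact (Equiv.subsingleton_congr e3.toEquiv).1 h6

end Groth.Agent.Sga4h.H138.KlPunct
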