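import Groth.Agent.Sga4h.H299.HcK
import Groth.Agent.Sga4h.H299.RsBC

/-!
# Stalks of `R^q f_!` at geometric points

* `nonempty_stalk`: the stalk of `R^q f_* j_! M` at a geometric point is the cohomology of the fibre;
* `nonempty_fibre`: for the sheaves of the prelude, with any cartesian description of the fibre.
-/

set_option autoImplicit false
universe u

open CategoryTheory CategoryTheory.Limits AlgebraicGeometry Opposite

namespace Groth.Agent.Sga4h.H138.KlStalk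

open Groth.Agent.Sga4h.ModRestr Groth.Agent.Sga4h.EtaleRes Groth.Agent.Etrest.ModAb
  Groth.Agent.Sga4h.H299.ExtBC Groth.Agent.Sga4h.H299.Rs Groth.Agent.Sga4h.H299.AbBasic
  Groth.Agent.Sga4h.H299.Hc Groth.Agent.Sga4h.H299.HcK Groth.Agent.Sga4h.H299.LamMod
  Groth.Agent.EtpbcB.SepClosedPoint

attribute [local instance] jCont

section

variable {Λ : Type (u + 1)} [CommRing Λ] {K : Type u} [Field K] [IsSepClosed K]

/-- The stalk of `R^q f_* j_! M` at a geometric point is the cohomology of the fibre. -/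
theorem nonempty_stalk {n : ℕ} (hn0 : 0 < n) (hn : (n : Λ) = 0) {X P S X' P' : Scheme.{u}}
    {j : X ⟶ P} {p : P ⟶ S} {j' : X' ⟶ P'} {p' : P' ⟶ Spec (CommRingCat.of K)} {gX : X' ⟶ X} {gP : P' ⟶ P}
    {ξ : Spec (CommRingCat.of K) ⟶ S} [IsOpenImmersion j] [IsOpenImmersion j'] [IsProper p]
    (h1 : IsPullback gX j' j gP) (h2 : IsPullback gP p' p ξ) (q : ℕ) (M : EtModW.Mod Λ X) :
    Nonempty (((EtCoh.stalk ξ).obj ((ab Λ S).obj ((RS Λ j p q).obj M)) : Type (u + 1)) ≃+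
      HcG j' ((EtModW.pull Λ gX).obj M) q) := by
  obtain ⟨e1⟩ := H299.RsBC.nonempty_rs_pbc hn0 hn h1 h2 q M
  obtain ⟨e2⟩ := nonempty_hcEquiv j' p' q ((EtModW.pull Λ gX).obj M)
  have e3 : (EtCoh.pull ξ).obj ((ab Λ S).obj ((RS Λ j p q).obj M)) ≅
      (ab Λ _).obj ((RS Λ j' p' q).obj ((EtModW.pull Λ gX).obj M)) :=
    (pullIso Λ ξ).symm.app _ ≪≫ (ab Λ _).mapIso e1
  exact ⟨((stalkIsoGammaPull K ξ).app _).addCommGroupIsoToAddEquiv.trans
    (((Γtop _).mapIso e3).addCommGroupIsoToAddEquiv.trans ((gammaAb _ _).symm.trans e2))⟩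

end

section prelude

variable {Λ : Type} [CommRing Λ] {K : Type u} [Field K] [IsSepClosed K]

/-- The cohomology of the fibre, for the sheaves of the prelude. -/
theorem nonempty_hcG {X₀ X X' P' : Scheme.{u}} (m : X ⟶ X₀) (gX : X' ⟶ X) (j' : X' ⟶ P')
    [IsOpenImmersion j'] (L : EtLam.Sheaf Λ X₀) (q : ℕ) :
    Nonempty (HcG j' ((EtModW.pull (UL.{u} Λ) gX).obj (toMod (EtLam.pullback m L))) q ≃+
      EtCoh.H P' (FinFr.extZeroLam j' (EtLam.pullback (gX ≫ m) L)).carrier q) := by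
  have e1 : (EtModW.pull (UL.{u} Λ) gX).obj (toMod (EtLam.pullback m L)) ≅
      toMod (EtLam.pullback (gX ≫ m) L) :=
    (EtModW.pull (UL.{u} Λ) gX).mapIso (toModPull m L).symm ≪≫
      (Groth.Agent.Etcore.LPullComp.pullComp (UL.{u} Λ) gX m).app _ ≪≫ toModPull (gX ≫ m) L
  obtain ⟨e2⟩ := hc_congr j' e1 q
  exact ⟨e2⟩

/-- The stalk of `R^q f_* j_! (m^* L)` at a geometric point, for the sheaves of the prelude: there is a
compactification of the fibre whose cohomology is the stalk. -/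
theorem exists_stalk {n : ℕ} (hn0 : 0 < n) (hn : (n : Λ) = 0) {X₀ X P S X' : Scheme.{u}} (m : X ⟶ X₀)
    (j : X ⟶ P) (p : P ⟶ S) [IsOpenImmersion j] [IsProper p] (ξ : Spec (CommRingCat.of K) ⟶ S)
    {gX : X' ⟶ X} {s : X' ⟶ Spec (CommRingCat.of K)} (h : IsPullback gX s (j ≫ p) ξ)
    (L : EtLam.Sheaf Λ X₀) :
    ∃ (P' : Scheme.{u}) (j' : X' ⟶ P') (p' : P' ⟶ Spec (CommRingCat.of K)) (_ : IsOpenImmersion j')
      (_ : IsProper p'), j' ≫ p' = s ∧ ∀ q : ℕ,
        Nonempty (((EtCoh.stalk ξ).obj ((EtCoh.Rpush p q).obj ((EtShriek.extZero j).obj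
          (EtLam.pullback m L).carrier)) : Type (u + 1)) ≃+
            EtCoh.H P' (FinFr.extZeroLam j' (EtLam.pullback (gX ≫ m) L)).carrier q) := by
  obtain ⟨P', j', p', gP, i1, i2, h1, h2, h3⟩ := H299.RsBC.exists_baseChange j p h
  refine ⟨P', j', p', i1, i2, h1, fun q => ?_⟩
  have hn' : (n : UL.{u} Λ) = 0 := by
    apply ULift.down_injective
    exact hn
  obtain ⟨e1⟩ := nonempty_stalk (K := K) hn0 hn' h2 h3 q (toMod (EtLam.pullback m L))
  obtain ⟨e2⟩ := nonempty_hcG m gX j' L q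
  have e3 : (EtCoh.Rpush p q).obj ((EtShriek.extZero j).obj (EtLam.pullback m L).carrier) ≅
      (ab (UL.{u} Λ) S).obj ((RS (UL.{u} Λ) j p q).obj (toMod (EtLam.pullback m L))) :=
    (rsAb (UL.{u} Λ) j p q).symm.app (toMod (EtLam.pullback m L))
  exact ⟨((EtCoh.stalk ξ).mapIso e3).addCommGroupIsoToAddEquiv.trans (e1.trans e2)⟩

end prelude

end Groth.Agent.Sga4h.H138.KlStalk
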