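import Mathlib.AlgebraicGeometry.AlgClosed.Basic
import Mathlib.AlgebraicGeometry.Morphisms.Smooth
import Mathlib.AlgebraicGeometry.FunctionField
import Mathlib.Algebra.Polynomial.Laurent
import Mathlib.RingTheory.DedekindDomain.Dvr
import Mathlib.RingTheory.Jacobson.Ring
import Groth.Agent.FlatB.AffSpaceSmooth

/-!
# Geometry of the product map `A^n ⟶ A^1` and of the multiplicative group

* `isPullback_quot`: the fibre of the product map at `a` is `Spec K[x]/(x_1 ⋯ x_n - a)`;
* `exists_pt_line`, `exists_pt_torus`: closed points of `A^1`, `G_m` are evaluation maps;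
* properties of `Spec K[T;T⁻¹]`: `isLocallyNoetherian_torus`, `irreducibleSpace_torus`, `normal_torus`,
  `jacobsonSpace_torus`, `isClosed_torus`.
-/

set_option autoImplicit false
universe u

open CategoryTheory CategoryTheory.Limits AlgebraicGeometry Opposite
open scoped BigOperators
open LaurentPolynomial

namespace Groth.Agent.Sga4h.H138.KlGeo

section quot

variable (K : Type u) [Field K] (n : ℕ)

/-- The product map `A^n ⟶ A^1`. -/
noncomputable abbrev prodMap :
    Spec (CommRingCat.of (MvPolynomial (Fin n) K)) ⟶ Spec (CommRingCat.of (Polynomial K)) :=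
  Spec.map (CommRingCat.ofHom
    (Polynomial.aeval (∏ i : Fin n, MvPolynomial.X i : MvPolynomial (Fin n) K)).toRingHom)

/-- The point `a` of `A^1`. -/
noncomputable abbrev evalPt (a : K) : Spec (CommRingCat.of K) ⟶ Spec (CommRingCat.of (Polynomial K)) :=
  Spec.map (CommRingCat.ofHom (Polynomial.evalRingHom a))

/-- The open immersion `G_m ⟶ A^1`. -/
noncomputable abbrev torusι :
    Spec (CommRingCat.of K[T;T⁻¹]) ⟶ Spec (CommRingCat.of (Polynomial K)) :=
  Spec.map (CommRingCat.ofHom (Polynomial.toLaurent : Polynomial K →+* K[T;T⁻¹]))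

/-- The ideal of the fibre. -/
noncomputable abbrev fibId (a : K) : Ideal (MvPolynomial (Fin n) K) :=
  Ideal.span {(∏ i : Fin n, MvPolynomial.X i) - MvPolynomial.C a}

/-- The inclusion of the fibre. -/
noncomputable abbrev fibι (a : K) :
    Spec (CommRingCat.of (MvPolynomial (Fin n) K ⧸ fibId K n a)) ⟶
      Spec (CommRingCat.of (MvPolynomial (Fin n) K)) :=
  Spec.map (CommRingCat.ofHom (Ideal.Quotient.mk (fibId K n a)))

/-- The structure morphism of the fibre. -/
noncomputable abbrev fibStr (a : K) :
    Spec (CommRingCat.of (MvPolynomial (Fin n) K ⧸ fibId K n a)) ⟶ Spec (CommRingCat.of K) :=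
  Spec.map (CommRingCat.ofHom (algebraMap K (MvPolynomial (Fin n) K ⧸ fibId K n a)))

theorem comm_quot (a : K) :
    (Ideal.Quotient.mk (fibId K n a)).comp
        (Polynomial.aeval (∏ i : Fin n, MvPolynomial.X i : MvPolynomial (Fin n) K)).toRingHom =
      (algebraMap K (MvPolynomial (Fin n) K ⧸ fibId K n a)).comp (Polynomial.evalRingHom a) := by
  apply Polynomial.ringHom_ext
  · intro c
    simp only [RingHom.comp_apply, Polynomial.coe_evalRingHom, Polynomial.eval_C]
    change Ideal.Quotient.mk (fibId K n a) (Polynomial.aeval _ (Polynomial.C c)) = _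
    rw [Polynomial.aeval_C]
    rfl
  · simp only [RingHom.comp_apply, Polynomial.coe_evalRingHom, Polynomial.eval_X]
    change Ideal.Quotient.mk (fibId K n a) (Polynomial.aeval _ Polynomial.X) = _
    rw [Polynomial.aeval_X]
    refine Ideal.Quotient.eq.2 ?_
    exact Ideal.subset_span rfl

theorem isPushout_quot (a : K) :
    IsPushout
      (CommRingCat.ofHom
        (Polynomial.aeval (∏ i : Fin n, MvPolynomial.X i : MvPolynomial (Fin n) K)).toRingHom)
      (CommRingCat.ofHom (Polynomial.evalRingHom a))
      (CommRingCat.ofHom (Ideal.Quotient.mk (fibId K n a)))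
      (CommRingCat.ofHom (algebraMap K (MvPolynomial (Fin n) K ⧸ fibId K n a))) := by
  have key : ∀ (s : PushoutCocone (CommRingCat.ofHom
        (Polynomial.aeval (∏ i : Fin n, MvPolynomial.X i : MvPolynomial (Fin n) K)).toRingHom)
      (CommRingCat.ofHom (Polynomial.evalRingHom a))) (p : Polynomial K),
      s.inl.hom (Polynomial.aeval (∏ i : Fin n, MvPolynomial.X i : MvPolynomial (Fin n) K) p) =
        s.inr.hom (Polynomial.eval a p) := fun s p =>
    congrArg (fun φ => φ p) (congrArg CommRingCat.Hom.hom s.condition)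
  refine ⟨⟨?_⟩, ⟨PushoutCocone.IsColimit.mk _ (fun s => CommRingCat.ofHom
    (Ideal.Quotient.lift (fibId K n a) s.inl.hom ?_)) ?_ ?_ ?_⟩⟩
  · exact CommRingCat.hom_ext (comm_quot K n a)
  · have h1 : fibId K n a ≤ RingHom.ker s.inl.hom := by
      refine (Ideal.span_singleton_le_iff_mem _).2 ?_
      have h2 := key s (Polynomial.X - Polynomial.C a)
      rw [map_sub, Polynomial.aeval_X, Polynomial.aeval_C, Polynomial.eval_sub, Polynomial.eval_X,
        Polynomial.eval_C, sub_self, map_zero] at h2
      exact h2
    intro x hx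
    exact h1 hx
  · intro s
    apply CommRingCat.hom_ext
    exact Ideal.Quotient.lift_comp_mk _ _ _
  · intro s
    apply CommRingCat.hom_ext
    apply RingHom.ext
    intro c
    have h := key s (Polynomial.C c)
    rw [Polynomial.aeval_C, Polynomial.eval_C] at h
    exact h
  · intro s m h1 h2
    apply CommRingCat.hom_ext
    apply Ideal.Quotient.ringHom_ext
    have h3 := congrArg CommRingCat.Hom.hom h1
    refine Eq.trans ?_ (Ideal.Quotient.lift_comp_mk _ _ _).symm
    exact h3

/-- The fibre of the product map at `a`. -/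
theorem isPullback_quot (a : K) :
    IsPullback (fibι K n a) (fibStr K n a) (prodMap K n) (evalPt K a) :=
  isPullback_SpecMap_of_isPushout _ _ _ _ (isPushout_quot K n a)

end quot

section torus

variable (K : Type u) [Field K]

instance isOpenImmersion_torusι : IsOpenImmersion (torusι K) :=
  IsOpenImmersion.of_isLocalization (R := Polynomial K) (S := K[T;T⁻¹]) (Polynomial.X : Polynomial K)

theorem powers_le : Submonoid.powers (Polynomial.X : Polynomial K) ≤ nonZeroDivisors (Polynomial K) :=
  powers_le_nonZeroDivisors_of_noZeroDivisors Polynomial.X_ne_zero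

instance isDomain_laurent : IsDomain K[T;T⁻¹] :=
  IsLocalization.isDomain_of_le_nonZeroDivisors K[T;T⁻¹] (powers_le K)

instance isDedekindDomain_laurent : IsDedekindDomain K[T;T⁻¹] :=
  IsLocalization.isDedekindDomain (Polynomial K) (powers_le K) _

end torus

section dedekind

theorem normal_of_dedekind' (B : CommRingCat.{u}) [IsDomain B] [IsIntegrallyClosed B] (x : Spec B) :
    IsDomain ((Spec B).presheaf.stalk x) ∧ IsIntegrallyClosed ((Spec B).presheaf.stalk x) := by
  refine ⟨inferInstance, ?_⟩
  let _ : Algebra B ((Spec B).presheaf.stalk x) := StructureSheaf.stalkAlgebra B x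
  have hp : x.asIdeal.IsPrime := PrimeSpectrum.isPrime (R := B) x
  have h1 : IsLocalization.AtPrime ((Spec B).presheaf.stalk x) x.asIdeal :=
    StructureSheaf.IsLocalization.to_stalk B x
  exact isIntegrallyClosed_of_isLocalization (R := B) _ x.asIdeal.primeCompl
    (Ideal.primeCompl_le_nonZeroDivisors _)

variable (A : Type u) [CommRing A] [IsDedekindDomain A]

theorem normal_of_dedekind (x : Spec (CommRingCat.of A)) :
    IsDomain ((Spec (CommRingCat.of A)).presheaf.stalk x) ∧
      IsIntegrallyClosed ((Spec (CommRingCat.of A)).presheaf.stalk x) :=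
  normal_of_dedekind' (CommRingCat.of A) x

theorem isClosed_of_dedekind (x : Spec (CommRingCat.of A)) (hx : x ≠ genericPoint (Spec (CommRingCat.of A))) :
    IsClosed ({x} : Set (Spec (CommRingCat.of A))) := by
  rw [genericPoint_eq_bot_of_affine] at hx
  have h0 : x.asIdeal.IsPrime := PrimeSpectrum.isPrime (R := A) x
  have h1 : x.asIdeal ≠ ⊥ := fun h => hx (PrimeSpectrum.ext h)
  have h2 : x.asIdeal.IsMaximal := Ring.DimensionLEOne.maximalOfPrime h1 h0
  exact (PrimeSpectrum.isClosed_singleton_iff_isMaximal x).2 h2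

end dedekind

section points

variable (K : Type u) [Field K]

/-- The structure morphism of `A^1`. -/
noncomputable abbrev lineStr : Spec (CommRingCat.of (Polynomial K)) ⟶ Spec (CommRingCat.of K) :=
  Spec.map (CommRingCat.ofHom (algebraMap K (Polynomial K)))

/-- The structure morphism of `G_m`. -/
noncomputable abbrev torusStr : Spec (CommRingCat.of K[T;T⁻¹]) ⟶ Spec (CommRingCat.of K) :=
  torusι K ≫ lineStr K

instance locallyOfFiniteType_line : LocallyOfFiniteType (lineStr K) := by
  rw [HasRingHomProperty.Spec_iff (P := @LocallyOfFiniteType)]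
  exact (RingHom.finiteType_algebraMap (A := K) (B := Polynomial K)).2 inferInstance

instance jacobsonSpace_line : JacobsonSpace (Spec (CommRingCat.of (Polynomial K))) :=
  LocallyOfFiniteType.jacobsonSpace (lineStr K)

instance jacobsonSpace_torus : JacobsonSpace (Spec (CommRingCat.of K[T;T⁻¹])) :=
  LocallyOfFiniteType.jacobsonSpace (torusStr K)

instance irreducibleSpace_torus : IrreducibleSpace (Spec (CommRingCat.of K[T;T⁻¹])) := inferInstance

instance isLocallyNoetherian_torus : IsLocallyNoetherian (Spec (CommRingCat.of K[T;T⁻¹])) := inferInstance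

instance isLocallyNoetherian_line : IsLocallyNoetherian (Spec (CommRingCat.of (Polynomial K))) := inferInstance

/-- A section of `A^1` is an evaluation map. -/
theorem eq_evalPt (s : Spec (CommRingCat.of K) ⟶ Spec (CommRingCat.of (Polynomial K)))
    (hs : s ≫ lineStr K = 𝟙 _) : ∃ a : K, s = evalPt K a := by
  obtain ⟨φ, rfl⟩ : ∃ φ, s = Spec.map φ := ⟨Spec.preimage s, (Spec.map_preimage s).symm⟩
  have h1 : CommRingCat.ofHom (algebraMap K (Polynomial K)) ≫ φ = 𝟙 _ := by
    apply Spec.map_injective
    rw [Spec.map_comp, Spec.map_id]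
    exact hs
  refine ⟨φ.hom Polynomial.X, ?_⟩
  congr 1
  apply CommRingCat.hom_ext
  apply Polynomial.ringHom_ext
  · intro c
    have h2 := congrArg (fun t => t c) (congrArg CommRingCat.Hom.hom h1)
    refine Eq.trans ?_ (Polynomial.eval_C (x := φ.hom Polynomial.X)).symm
    exact h2
  · exact (Polynomial.eval_X (x := φ.hom Polynomial.X)).symm

/-- If `evalPt a` lifts to `G_m` then `a ≠ 0`. -/
theorem ne_zero_of_lift (s : Spec (CommRingCat.of K) ⟶ Spec (CommRingCat.of K[T;T⁻¹])) (a : K)
    (hs : s ≫ torusι K = evalPt K a) : a ≠ 0 := by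
  obtain ⟨φ, rfl⟩ : ∃ φ, s = Spec.map φ := ⟨Spec.preimage s, (Spec.map_preimage s).symm⟩
  have h1 : CommRingCat.ofHom (Polynomial.toLaurent : Polynomial K →+* K[T;T⁻¹]) ≫ φ =
      CommRingCat.ofHom (Polynomial.evalRingHom a) := by
    apply Spec.map_injective
    rw [Spec.map_comp]
    exact hs
  have h2 : φ.hom (Polynomial.toLaurent (Polynomial.X : Polynomial K)) = Polynomial.eval a Polynomial.X :=
    congrArg (fun t => t (Polynomial.X : Polynomial K)) (congrArg CommRingCat.Hom.hom h1)
  rw [Polynomial.toLaurent_X, Polynomial.eval_X] at h2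
  have h3 : IsUnit (φ.hom (LaurentPolynomial.T 1 : K[T;T⁻¹])) := (LaurentPolynomial.isUnit_T 1).map φ.hom
  rw [h2] at h3
  exact h3.ne_zero

variable [IsAlgClosed K]

/-- Closed points of `A^1` over an algebraically closed field. -/
theorem exists_pt_line (x : Spec (CommRingCat.of (Polynomial K)))
    (hx : IsClosed ({x} : Set (Spec (CommRingCat.of (Polynomial K))))) :
    ∃ a : K, evalPt K a default = x := by
  obtain ⟨a, ha⟩ := eq_evalPt K _ (pointOfClosedPoint_comp (lineStr K) x hx)
  refine ⟨a, ?_⟩
  rw [← ha]
  exact pointOfClosedPoint_apply (lineStr K) x hx _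

/-- Closed points of `G_m` over an algebraically closed field. -/
theorem exists_pt_torus (x : Spec (CommRingCat.of K[T;T⁻¹]))
    (hx : IsClosed ({x} : Set (Spec (CommRingCat.of K[T;T⁻¹])))) :
    ∃ (a : K) (ξ : Spec (CommRingCat.of K) ⟶ Spec (CommRingCat.of K[T;T⁻¹])), a ≠ 0 ∧ ξ default = x ∧
      ξ ≫ torusι K = evalPt K a := by
  let ξ := pointOfClosedPoint (torusStr K) x hx
  have h1 : ξ ≫ torusStr K = 𝟙 _ := pointOfClosedPoint_comp (torusStr K) x hx
  obtain ⟨a, ha⟩ := eq_evalPt K (ξ ≫ torusι K) (by rw [Category.assoc]; exact h1)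
  exact ⟨a, ξ, ne_zero_of_lift K ξ a ha, pointOfClosedPoint_apply (torusStr K) x hx _, ha⟩

end points

section openU

variable (K : Type u) [Field K] (n : ℕ)

/-- The structure morphism of `A^n`. -/
noncomputable abbrev affStr : Spec (CommRingCat.of (MvPolynomial (Fin n) K)) ⟶ Spec (CommRingCat.of K) :=
  Spec.map (CommRingCat.ofHom (algebraMap K (MvPolynomial (Fin n) K)))

theorem prodMap_lineStr : prodMap K n ≫ lineStr K = affStr K n := by
  rw [← Spec.map_comp, ← CommRingCat.ofHom_comp]
  congr 2
  exact (Polynomial.aeval (∏ i : Fin n, MvPolynomial.X i : MvPolynomial (Fin n) K)).comp_algebraMap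

/-- The open subscheme `x_1 ⋯ x_n ≠ 0` of `A^n`. -/
noncomputable abbrev openU : Scheme.{u} := pullback (prodMap K n) (torusι K)

/-- The open immersion of `openU` into `A^n`. -/
noncomputable abbrev uι : openU K n ⟶ Spec (CommRingCat.of (MvPolynomial (Fin n) K)) :=
  pullback.fst (prodMap K n) (torusι K)

/-- The product map on `openU`. -/
noncomputable abbrev uπ : openU K n ⟶ Spec (CommRingCat.of K[T;T⁻¹]) :=
  pullback.snd (prodMap K n) (torusι K)

theorem isPullback_u : IsPullback (uι K n) (uπ K n) (prodMap K n) (torusι K) :=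
  IsPullback.of_hasPullback _ _

instance isOpenImmersion_uι : IsOpenImmersion (uι K n) := inferInstance

instance isAffine_openU : IsAffine (openU K n) := inferInstance

theorem uι_affStr : uπ K n ≫ torusStr K = uι K n ≫ affStr K n := by
  rw [← prodMap_lineStr, ← Category.assoc, ← Category.assoc, pullback.condition]

theorem smooth_affStr : SmoothOfRelativeDimension n (affStr K n) :=
  Groth.Agent.FlatB.AffSpaceSmooth.smoothOfRelativeDimension_SpecMap K n

theorem smooth_u : SmoothOfRelativeDimension n (uπ K n ≫ torusStr K) := by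
  have h1 := smooth_affStr K n
  rw [uι_affStr]
  have h2 : SmoothOfRelativeDimension (0 + n) (uι K n ≫ affStr K n) := inferInstance
  rwa [zero_add] at h2

instance isSeparated_torusStr : IsSeparated (torusStr K) := inferInstance

instance quasiCompact_torusStr : QuasiCompact (torusStr K) := inferInstance

instance isSeparated_uStr : IsSeparated (uπ K n ≫ torusStr K) := inferInstance

instance quasiCompact_uStr : QuasiCompact (uπ K n ≫ torusStr K) := inferInstance

theorem locallyOfFiniteType_uStr : LocallyOfFiniteType (uπ K n ≫ torusStr K) := by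
  have h1 := smooth_u K n
  have h2 : Smooth (uπ K n ≫ torusStr K) := h1.smooth
  infer_instance

end openU

end Groth.Agent.Sga4h.H138.KlGeo
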